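import Groth.Agent.Lib.DimCut.Basic
import Groth.Agent.Lib.GrpdQuot.InvariantOpen
import Mathlib.AlgebraicGeometry.PullbackCarrier
import Mathlib.AlgebraicGeometry.Morphisms.UniversallyInjective

/-!
Dimension of the off-diagonal part of a self fibre product, and radicial points.
-/

set_option autoImplicit false
universe u

open CategoryTheory Limits AlgebraicGeometry

namespace GrothLib.WellInter17

open GrothLib.AffDom

/-- The off-diagonal points of the fibre product of two subsets over the base. -/
abbrev offDiag {X S : Scheme.{u}} (f : X ⟶ S) (Y Z : Set X) : Set ↥(pullback f f) :=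
  {p | pullback.fst f f p ∈ Y ∧ pullback.snd f f p ∈ Z ∧ p ∉ Set.range (pullback.diagonal f)}

theorem cancel_nat {a b : ℕ} {x : WithBot ℕ∞}
    (h : (a : WithBot ℕ∞) + x ≤ (a : WithBot ℕ∞) + (b : WithBot ℕ∞)) : x ≤ (b : WithBot ℕ∞) := by
  induction x using WithBot.recBotCoe with
  | bot => exact bot_le
  | coe y =>
    have h' : (a : ℕ∞) + y ≤ (a : ℕ∞) + (b : ℕ∞) := by exact_mod_cast h
    exact WithBot.coe_le_coe.2 ((ENat.add_le_add_iff_left (ENat.natCast_ne_top a)).1 h')

variable {K : Type u} [Field K] {X S : Scheme.{u}}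

theorem ptDim_le_dim_offDiag (q : S ⟶ Spec (CommRingCat.of K)) [LocallyOfFiniteType q] (f : X ⟶ S)
    [LocallyOfFiniteType f] [IsSeparated f] {Y Z : Set X} (hY : IsClosed Y) (hZ : IsClosed Z)
    {p : ↥(pullback f f)} (hp : p ∈ offDiag f Y Z) :
    ptDim (pullback.fst f f p) ≤ topologicalKrullDim (offDiag f Y Z) := by
  let O : (pullback f f).Opens :=
    ⟨(Set.range (pullback.diagonal f))ᶜ, (pullback.diagonal f).isClosedEmbedding.isClosed_range.isOpen_compl⟩
  let t : (O : Scheme.{u}) := ⟨p, hp.2.2⟩
  have h1 : ptDim (pullback.fst f f p) ≤ ptDim p := by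
    rw [ptDim_eq_add (pullback.fst f f) (f ≫ q) p]
    calc ptDim (pullback.fst f f p) = ptDim (pullback.fst f f p) + 0 := (add_zero _).symm
      _ ≤ _ := add_le_add le_rfl (ptDim_nonneg _)
  refine h1.trans ?_
  rw [show p = O.ι t from rfl, ← GrothLib.DimCut.ptDim_immersion (pullback.fst f f ≫ f ≫ q) O.ι t, ptDim]
  have hmem : ∀ w : (closure {t} : Set ↥(O : Scheme.{u})), O.ι w.1 ∈ offDiag f Y Z := fun w => by
    have hs : p ⤳ O.ι w.1 := (specializes_iff_mem_closure.2 w.2).map O.ι.continuous
    exact ⟨(hs.map (pullback.fst f f).continuous).mem_closed hY hp.1,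
      (hs.map (pullback.snd f f).continuous).mem_closed hZ hp.2.1, w.1.2⟩
  exact ((O.ι.isEmbedding.comp Topology.IsEmbedding.subtypeVal).codRestrict _ hmem).isInducing.topologicalKrullDim_le

/-- A point outside the off-diagonal locus has purely inseparable residue extension. -/
theorem isPurelyInseparable_of_forall_diag (f : X ⟶ S) (x : X)
    (hx : ∀ p : ↥(pullback f f), pullback.fst f f p = x → pullback.snd f f p = x → p ∈ Set.range (pullback.diagonal f)) :
    (f.residueFieldMap x).hom.IsPurelyInseparable := by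
  algebraize [(f.residueFieldMap x).hom]
  rw [RingHom.IsPurelyInseparable, isPurelyInseparable_iff_subsingleton_emb, subsingleton_iff]
  intro σ₁ σ₂
  apply AlgHom.coe_ringHom_injective
  let g₁ := Spec.map (CommRingCat.ofHom σ₁.toRingHom) ≫ X.fromSpecResidueField x
  let g₂ := Spec.map (CommRingCat.ofHom σ₂.toRingHom) ≫ X.fromSpecResidueField x
  have hg : g₁ ≫ f = g₂ ≫ f := by
    simp only [g₁, g₂, Category.assoc, ← f.SpecMap_residueFieldMap_fromSpecResidueField x, ← Spec.map_comp_assoc]
    congr 2
    ext a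
    simp only [CommRingCat.hom_comp, RingHom.comp_apply]
    exact (AlgHom.commutes σ₁ a).trans (AlgHom.commutes σ₂ a).symm
  let φ := pullback.lift (f := f) (g := f) g₁ g₂ hg
  let s : ↥(Spec (CommRingCat.of (AlgebraicClosure (X.residueField x)))) := IsLocalRing.closedPoint (AlgebraicClosure (X.residueField x))
  have hfst : φ ≫ pullback.fst f f = g₁ := pullback.lift_fst _ _ _
  have hsnd : φ ≫ pullback.snd f f = g₂ := pullback.lift_snd _ _ _
  have hp1 : pullback.fst f f (φ s) = x := by
    rw [← Scheme.Hom.comp_apply φ, hfst]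
    simp only [g₁, Scheme.Hom.comp_apply]
    exact X.fromSpecResidueField_apply x _
  have hp2 : pullback.snd f f (φ s) = x := by
    rw [← Scheme.Hom.comp_apply φ, hsnd]
    simp only [g₂, Scheme.Hom.comp_apply]
    exact X.fromSpecResidueField_apply x _
  obtain ⟨z, hz⟩ := hx _ hp1 hp2
  have hzx : z = x := by
    have := congrArg (pullback.fst f f) hz
    rw [← Scheme.Hom.comp_apply, pullback.diagonal_fst, hp1] at this
    exact this
  subst hzx
  haveI : IsIso ((pullback.diagonal f).residueFieldMap z) :=
    (ConcreteCategory.isIso_iff_bijective _).2 ⟨RingHom.injective _,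
      GrothLib.AffDom.residueFieldMap_surjective (pullback.diagonal f) z⟩
  have heq : (pullback f f).fromSpecResidueField (φ s) ≫ pullback.fst f f =
      (pullback f f).fromSpecResidueField (φ s) ≫ pullback.snd f f := by
    rw [← hz, ← cancel_epi (Spec.map ((pullback.diagonal f).residueFieldMap z)),
      ← Category.assoc, ← Category.assoc, (pullback.diagonal f).SpecMap_residueFieldMap_fromSpecResidueField z]
    simp
  obtain ⟨ψ, hψ⟩ : ∃ ψ, φ = ψ ≫ (pullback f f).fromSpecResidueField (φ s) :=
    ⟨_, (((pullback f f).SpecToEquivOfField _).symm_apply_apply φ).symm⟩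
  have h12 : g₁ = g₂ := by
    calc g₁ = φ ≫ pullback.fst f f := hfst.symm
      _ = ψ ≫ ((pullback f f).fromSpecResidueField (φ s) ≫ pullback.fst f f) := by rw [← Category.assoc, ← hψ]
      _ = ψ ≫ ((pullback f f).fromSpecResidueField (φ s) ≫ pullback.snd f f) := by rw [heq]
      _ = φ ≫ pullback.snd f f := by rw [← Category.assoc, ← hψ]
      _ = g₂ := hsnd
  have h13 := Spec.map_injective ((cancel_mono (X.fromSpecResidueField z)).1 h12)
  exact congrArg CommRingCat.Hom.hom h13

end GrothLib.WellInter17
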