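import Groth.Agent.Lib.DimCut.Basic
import Groth.Agent.Lib.FibreBC.Basic

/-!
Dimension of the preimage of a locally closed set under a morphism with fibres of constant dimension.
-/

set_option autoImplicit false
universe u

open CategoryTheory Limits AlgebraicGeometry

namespace GrothLib.WellInter17

open GrothLib.AffDom

variable {K : Type u} [Field K]

theorem add_natCast_le_iff (n : ℕ) {x y : WithBot ℕ∞} :
    x + (n : WithBot ℕ∞) ≤ y + (n : WithBot ℕ∞) ↔ x ≤ y := by
  refine ⟨fun h => ?_, fun h => add_le_add h le_rfl⟩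
  induction x using WithBot.recBotCoe with
  | bot => exact bot_le
  | coe a =>
    induction y using WithBot.recBotCoe with
    | bot =>
      rw [WithBot.bot_add] at h
      rcases WithBot.add_eq_bot.1 (le_bot_iff.1 h) with h' | h'
      · exact absurd h' WithBot.coe_ne_bot
      · exact absurd h' (WithBot.natCast_ne_bot n)
    | coe b =>
      have h' : a + (n : ℕ∞) ≤ b + (n : ℕ∞) := by exact_mod_cast h
      exact WithBot.coe_le_coe.2 ((ENat.add_le_add_iff_right (ENat.natCast_ne_top n)).1 h')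

/-- The dimension of a locally closed set is the supremum of the dimensions of its points. -/
theorem dim_inter_open_eq {Y : Scheme.{u}} (g : Y ⟶ Spec (CommRingCat.of K)) [LocallyOfFiniteType g]
    {A : Set Y} (hA : IsClosed A) (O : Y.Opens) :
    topologicalKrullDim (A ∩ (O : Set Y) : Set Y) = ⨆ x : (A ∩ (O : Set Y) : Set Y), ptDim x.1 := by
  let T : Set ↥(O : Scheme.{u}) := O.ι ⁻¹' A
  have hT : IsClosed T := hA.preimage O.ι.continuous
  haveI : QuasiSober T := hT.isClosedEmbedding_subtypeVal.quasiSober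
  have hrange : Set.range (fun t : T => O.ι t.1) = A ∩ (O : Set Y) := by
    ext y
    constructor
    · rintro ⟨t, rfl⟩
      exact ⟨t.2, t.1.2⟩
    · rintro ⟨h1, h2⟩
      exact ⟨⟨⟨y, h2⟩, h1⟩, rfl⟩
  have hpt : ∀ t : T, topologicalKrullDim (closure {t} : Set T) = ptDim (O.ι t.1) := fun t => by
    rw [← GrothLib.DimCut.ptDim_immersion g O.ι t.1]
    exact GrothLib.DimCut.ptDim_of_isEmbedding Topology.IsEmbedding.subtypeVal t
      fun y hy => ⟨⟨y, hy.mem_closed hT t.2⟩, rfl⟩
  rw [← GrothLib.Dim.IsEmbedding.topologicalKrullDim_eq (f := fun t : T => O.ι t.1)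
    (O.ι.isEmbedding.comp Topology.IsEmbedding.subtypeVal) hrange, topologicalKrullDim_eq_iSup]
  refine le_antisymm (iSup_le fun t => (hpt t).trans_le ?_) (iSup_le fun x => ?_)
  · exact le_iSup (fun x : (A ∩ (O : Set Y) : Set Y) => ptDim x.1) ⟨O.ι t.1, t.2, t.1.2⟩
  · let t : T := ⟨⟨x.1, x.2.2⟩, x.2.1⟩
    have e : ptDim x.1 = topologicalKrullDim (closure {t} : Set T) := (hpt t).symm
    rw [e]
    exact le_iSup (fun t : T => topologicalKrullDim (closure {t} : Set T)) t

/-- Preimages of locally closed sets under morphisms with fibres of dimension `d`. -/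
theorem dim_preimage_inter_open {X Y : Scheme.{u}} (h : X ⟶ Y) [LocallyOfFiniteType h]
    (g : Y ⟶ Spec (CommRingCat.of K)) [LocallyOfFiniteType g] (d : ℕ)
    (hd : ∀ y : Y, topologicalKrullDim (h.fiber y) = (d : WithBot ℕ∞))
    {A : Set Y} (hA : IsClosed A) (O : Y.Opens) :
    topologicalKrullDim (h ⁻¹' (A ∩ (O : Set Y)) : Set X) =
      topologicalKrullDim (A ∩ (O : Set Y) : Set Y) + (d : WithBot ℕ∞) := by
  rw [show h ⁻¹' (A ∩ (O : Set Y)) = (h ⁻¹' A) ∩ ((h ⁻¹ᵁ O : X.Opens) : Set X) from rfl,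
    dim_inter_open_eq (h ≫ g) (hA.preimage h.continuous) (h ⁻¹ᵁ O), dim_inter_open_eq g hA O]
  refine le_antisymm (iSup_le fun p => ?_) ?_
  · rw [ptDim_eq_add h g p.1]
    exact add_le_add (le_iSup (fun x : (A ∩ (O : Set Y) : Set Y) => ptDim x.1) ⟨h p.1, p.2⟩)
      ((ptDim_le _).trans (hd _).le)
  · rw [add_comm]
    refine add_iSup_le d fun y => ?_
    have hdy : (d : WithBot ℕ∞) ≤ ⨆ z : ↥(h.fiber y.1), ptDim z := by
      rw [← topologicalKrullDim_eq_iSup_ptDim, hd]
    haveI : Nonempty ↥(h.fiber y.1) := by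
      by_contra hne
      rw [not_nonempty_iff] at hne
      rw [iSup_of_empty] at hdy
      exact WithBot.natCast_ne_bot d (le_bot_iff.1 hdy)
    obtain ⟨z, hz⟩ := exists_le_of_le_iSup (fun z => ptDim_nonneg z) d hdy
    have hmem : h (h.fiberι y.1 z) = y.1 := by
      have : h.fiberι y.1 z ∈ Set.range (h.fiberι y.1) := ⟨z, rfl⟩
      rw [h.range_fiberι] at this
      exact this
    refine le_trans ?_ (le_iSup (fun x : ((h ⁻¹' A) ∩ ((h ⁻¹ᵁ O : X.Opens) : Set X) : Set X) => ptDim x.1)
      ⟨h.fiberι y.1 z, show h (h.fiberι y.1 z) ∈ A ∩ (O : Set Y) by rw [hmem]; exact y.2⟩)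
    rw [ptDim_fiberι h g y.1 z, add_comm]
    exact add_le_add le_rfl hz

end GrothLib.WellInter17
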